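import Groth.Agent.Lib.Quot18.ClosedUnit
import Groth.Agent.Lib.CBC10.Point
import Groth.Agent.Lib.FreeSec5.BC
import Groth.Agent.Lib.BlowUpExist.Local
import Groth.Agent.Lib.RedSep.Basic
import Groth.Agent.Lib.GeomIrr18.Res
import Groth.Prelude.Def_W4c2seshadriposJets

/-!
# Separation of jets and extension of the ground field
-/

set_option autoImplicit false
set_option linter.style.haveILetI false
set_option linter.unusedSectionVars false
set_option backward.isDefEq.respectTransparency false
set_option backward.isDefEq.respectTransparency.types false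
set_option maxHeartbeats 1000000

universe u

open CategoryTheory CategoryTheory.Limits AlgebraicGeometry TopologicalSpace Opposite

noncomputable section

namespace Groth.Agent.Jets5

open Groth.Agent

theorem surjective_H0_iff {X : Scheme.{u}} {F N : X.Modules} (φ : F ⟶ N) :
    Function.Surjective (Sheaf.H.map ((SheafOfModules.toSheaf X.ringCatSheaf).map φ) 0) ↔
      Function.Surjective (φ.app ⊤) := by
  let eF := (Sheaf.H.equiv₀ (Coh.toAb F) (isTerminalTop : IsTerminal (⊤ : X.Opens)))
  let eN := (Sheaf.H.equiv₀ (Coh.toAb N) (isTerminalTop : IsTerminal (⊤ : X.Opens)))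
  have h : ∀ s, eN.symm (φ.app ⊤ s) =
      Sheaf.H.map ((SheafOfModules.toSheaf X.ringCatSheaf).map φ) 0 (eF.symm s) := fun s =>
    (Sheaf.H.equiv₀_symm_naturality (isTerminalTop : IsTerminal (⊤ : X.Opens))
      ((SheafOfModules.toSheaf X.ringCatSheaf).map φ) (show Γ(F, ⊤) from s)).symm
  constructor
  · intro hs t
    obtain ⟨a, ha⟩ := hs (eN.symm t)
    exact ⟨eF a, eN.symm.injective ((h _).trans (by rw [AddEquiv.symm_apply_apply]; exact ha))⟩
  · intro hs b
    obtain ⟨s, hse⟩ := hs (eN b)
    exact ⟨eF.symm s, (h s).symm.trans (by rw [hse]; exact eN.symm_apply_apply b)⟩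

/-- Surjectivity on global sections is epimorphy of the direct image to a point. -/
theorem surjective_iff_epi {X S : Scheme.{u}} [Subsingleton S] (f : X ⟶ S) {F N : X.Modules} (φ : F ⟶ N) :
    Function.Surjective (φ.app ⊤) ↔ Epi ((Scheme.Modules.pushforward f).map φ) :=
  (CBC10.epi_iff_surjective_top ((Scheme.Modules.pushforward f).map φ)).symm

section Unit

variable {X Z X' Z' : Scheme.{u}} {i : Z ⟶ X} {π : X' ⟶ X} {j : Z' ⟶ X'} {π' : Z' ⟶ Z}
  [IsClosedImmersion i] [IsClosedImmersion j] [Flat π]

/-- The pullback of the restriction to a closed subscheme is the restriction to its preimage. -/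
theorem exists_iso_unit (hsq : IsPullback π' j i π) (F : X.Modules) (hF : Coh.IsQCoh F) :
    ∃ t : (Scheme.Modules.pullback π).obj ((Scheme.Modules.pushforward i).obj ((Scheme.Modules.pullback i).obj F)) ≅
        (Scheme.Modules.pushforward j).obj ((Scheme.Modules.pullback j).obj ((Scheme.Modules.pullback π).obj F)),
      (Scheme.Modules.pullback π).map ((Scheme.Modules.pullbackPushforwardAdjunction i).unit.app F) ≫ t.hom =
        (Scheme.Modules.pullbackPushforwardAdjunction j).unit.app ((Scheme.Modules.pullback π).obj F) := by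
  let adjI := Scheme.Modules.pullbackPushforwardAdjunction i
  let adjJ := Scheme.Modules.pullbackPushforwardAdjunction j
  let adjP := Scheme.Modules.pullbackPushforwardAdjunction π
  let u := adjI.unit.app F
  let v := adjJ.unit.app ((Scheme.Modules.pullback π).obj F)
  haveI : Coh.IsQCoh ((Scheme.Modules.pullback i).obj F) := M1.isQCoh_pullback i hF
  haveI := ParaFDesc27.isIso_bc0_of_flat hsq ((Scheme.Modules.pullback i).obj F)
  let b := CohBC.bc0 i π j π' hsq.w ((Scheme.Modules.pullback i).obj F)
  let w := (adjJ.homEquiv _ _).symm ((Scheme.Modules.pullback π).map u ≫ b)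
  have h1 : v ≫ (Scheme.Modules.pushforward j).map w = (Scheme.Modules.pullback π).map u ≫ b :=
    (adjJ.homEquiv_unit _ _ w).symm.trans ((adjJ.homEquiv _ _).apply_symm_apply _)
  let M := (Scheme.Modules.pullback j).obj ((Scheme.Modules.pullback π).obj F)
  let e : (Scheme.Modules.pushforward π).obj ((Scheme.Modules.pushforward j).obj M) ≅
      (Scheme.Modules.pushforward i).obj ((Scheme.Modules.pushforward π').obj M) :=
    (Scheme.Modules.pushforwardComp j π).app M ≪≫ (Scheme.Modules.pushforwardCongr hsq.w.symm).app M ≪≫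
      ((Scheme.Modules.pushforwardComp π' i).app M).symm
  let ψ := (adjI.homEquiv _ _).symm ((adjP.homEquiv _ _) v ≫ e.hom)
  have hψ : u ≫ (Scheme.Modules.pushforward i).map ψ = (adjP.homEquiv _ _) v ≫ e.hom :=
    (adjI.homEquiv_unit _ _ ψ).symm.trans ((adjI.homEquiv _ _).apply_symm_apply _)
  let t := (adjP.homEquiv _ _).symm ((Scheme.Modules.pushforward i).map ψ ≫ e.inv)
  have h2 : (Scheme.Modules.pullback π).map u ≫ t = v := by
    refine (adjP.homEquiv_naturality_left_symm u ((Scheme.Modules.pushforward i).map ψ ≫ e.inv)).symm.trans ?_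
    refine (congrArg (adjP.homEquiv _ _).symm ((Category.assoc _ _ _).symm.trans
      ((congrArg (· ≫ e.inv) hψ).trans ((Category.assoc _ _ _).trans
        ((congrArg (((adjP.homEquiv _ _) v) ≫ ·) e.hom_inv_id).trans (Category.comp_id _)))))).trans ?_
    exact (adjP.homEquiv _ _).symm_apply_apply v
  haveI : Epi u := Quot18.epi_unit_closedImm i F hF
  haveI : Epi v := Quot18.epi_unit_closedImm j _ (M1.isQCoh_pullback π hF)
  haveI : (Scheme.Modules.pullback π).IsLeftAdjoint := ⟨_, ⟨adjP⟩⟩
  haveI : Epi ((Scheme.Modules.pullback π).map u) := inferInstance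
  refine ⟨⟨t, (Scheme.Modules.pushforward j).map w ≫ inv b, ?_, ?_⟩, h2⟩
  · rw [← cancel_epi ((Scheme.Modules.pullback π).map u), ← Category.assoc, h2, ← Category.assoc, h1, Category.assoc,
      IsIso.hom_inv_id]
    rfl
  · rw [← cancel_epi v, ← Category.assoc, ← Category.assoc, h1, Category.assoc ((Scheme.Modules.pullback π).map u),
      IsIso.hom_inv_id, Category.comp_id, h2]
    exact (Category.comp_id _).symm

variable {S S' : Scheme.{u}} {f : X ⟶ S} {f' : X' ⟶ S'} {g : S' ⟶ S}

/-- Surjectivity of the restriction is invariant under faithfully flat base change. -/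
theorem epi_unit_iff [QuasiCompact f] [QuasiSeparated f] [Flat g] [Surjective g] (hbase : IsPullback π f' f g)
    (hsq : IsPullback π' j i π) (F : X.Modules) (hF : Coh.IsQCoh F) :
    Epi ((Scheme.Modules.pushforward f).map ((Scheme.Modules.pullbackPushforwardAdjunction i).unit.app F)) ↔
      Epi ((Scheme.Modules.pushforward f').map
        ((Scheme.Modules.pullbackPushforwardAdjunction j).unit.app ((Scheme.Modules.pullback π).obj F))) := by
  obtain ⟨t, ht⟩ := exists_iso_unit hsq F hF
  rw [← ht, Functor.map_comp]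
  haveI : Coh.IsQCoh F := hF
  haveI : Coh.IsQCoh ((Scheme.Modules.pushforward i).obj ((Scheme.Modules.pullback i).obj F)) :=
    M1.isQCoh_push i (M1.isQCoh_pullback i hF)
  haveI := ParaFDesc27.isIso_bc0_of_flat hbase ((Scheme.Modules.pushforward i).obj ((Scheme.Modules.pullback i).obj F))
  let N₀ := (Scheme.Modules.pushforward i).obj ((Scheme.Modules.pullback i).obj F)
  refine ⟨fun h => ?_, fun h => ?_⟩
  · haveI : Epi ((Scheme.Modules.pushforward f).map
      (show F ⟶ N₀ from (Scheme.Modules.pullbackPushforwardAdjunction i).unit.app F)) := h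
    haveI := FreeSec5.epi_push_pullback hbase (M := F) (N := N₀)
      ((Scheme.Modules.pullbackPushforwardAdjunction i).unit.app F)
    exact @epi_comp _ _ _ _ _ _ (by assumption) _ inferInstance
  · refine FreeSec5.epi_push_of_epi_pullback hbase (M := F) (N := N₀)
      ((Scheme.Modules.pullbackPushforwardAdjunction i).unit.app F) ?_
    haveI := h
    have e : (Scheme.Modules.pushforward f').map ((Scheme.Modules.pullback π).map
        ((Scheme.Modules.pullbackPushforwardAdjunction i).unit.app F)) =
        ((Scheme.Modules.pushforward f').map ((Scheme.Modules.pullback π).map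
          ((Scheme.Modules.pullbackPushforwardAdjunction i).unit.app F)) ≫
            (Scheme.Modules.pushforward f').map t.hom) ≫ inv ((Scheme.Modules.pushforward f').map t.hom) := by
      rw [Category.assoc, IsIso.hom_inv_id, Category.comp_id]
    rw [e]; infer_instance

end Unit

theorem comap_ker_section {Y T Y' T' : Scheme.{u}} {p : Y ⟶ T} {p' : Y' ⟶ T'} {c : Y' ⟶ Y} {b : T' ⟶ T}
    (h : IsPullback c p' p b) (σ : T ⟶ Y) [IsClosedImmersion σ] (σ' : T' ⟶ Y') (hσ : σ ≫ p = 𝟙 T)
    (hσ' : σ' ≫ p' = 𝟙 T') (hc : σ' ≫ c = b ≫ σ) : σ.ker.comap c = σ'.ker := by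
  have sq : IsPullback b σ' σ c := by
    refine IsPullback.of_bot ?_ hc.symm h
    rw [hσ, hσ']
    exact IsPullback.of_vert_isIso ⟨by simp⟩
  rw [← Scheme.IdealSheafData.ker_fst_of_isClosedImmersion, ← sq.flip.isoPullback_hom_fst,
    Scheme.Hom.ker_comp_of_isIso]

theorem ker_point {X : Scheme.{u}} (k : Type u) [Field k] (σ : Spec (CommRingCat.of k) ⟶ X) (x : X)
    (hx : IsClosed ({x} : Set X)) (hσ : σ (IsLocalRing.closedPoint k) = x) :
    σ.ker = W4c2seshadripos.pointIdeal x hx := by
  haveI : Subsingleton (Spec (CommRingCat.of k)) := inferInstanceAs (Subsingleton (PrimeSpectrum k))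
  rw [RedSepLib.ker_eq_vanishingIdeal σ, W4c2seshadripos.pointIdeal]
  refine congrArg _ (SetLike.coe_injective ?_)
  show closure (Set.range σ) = ({x} : Set X)
  rw [show Set.range σ = {x} from ?_, hx.closure_eq]
  ext z
  exact ⟨fun ⟨a, ha⟩ => by rw [← ha, Subsingleton.elim a (IsLocalRing.closedPoint k), hσ]; rfl,
    fun hz => ⟨IsLocalRing.closedPoint k, hσ.trans hz.symm⟩⟩

theorem exists_section (k : Type u) [Field k] (X : Scheme.{u}) [X.Over (Spec (CommRingCat.of k))] (x : X)
    (hrat : Function.Surjective (Curv2.resMap k X x)) :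
    ∃ σ : Spec (CommRingCat.of k) ⟶ X, σ ≫ (X ↘ Spec (CommRingCat.of k)) = 𝟙 _ ∧
      σ (IsLocalRing.closedPoint k) = x := by
  let e := RingEquiv.ofBijective (Curv2.resMap k X x) ⟨RingHom.injective _, hrat⟩
  refine ⟨Spec.map (CommRingCat.ofHom e.symm.toRingHom) ≫ X.fromSpecResidueField x, ?_, ?_⟩
  · rw [Category.assoc, ← GeomIrr.spec_resMap, ← Spec.map_comp, ← Spec.map_id]
    congr 1
    ext a
    exact e.symm_apply_apply a
  · exact X.fromSpecResidueField_apply x _

end Groth.Agent.Jets5

namespace Groth.Agent.Jets5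

open Groth.Agent

theorem main (k : Type u) [Field k] (X : Scheme.{u}) [X.Over (Spec (CommRingCat.of k))]
    [IsProper (X ↘ (Spec (CommRingCat.of k)))] (F : X.Modules) (hF : Coh.IsQCoh F) (x : X)
    (hx : IsClosed ({x} : Set X)) (hrat : Function.Surjective (Curv2.resMap k X x))
    (k' : Type u) [Field k'] [Algebra k k'] (x' : ↥(Curv2.bc k X k')) (hx' : Curv2.bcFst k X k' x' = x)
    (hx'c : IsClosed ({x'} : Set ↥(Curv2.bc k X k'))) (l : ℕ) :
    W4c2seshadripos.SeparatesJets F x hx l ↔
      W4c2seshadripos.SeparatesJets ((Scheme.Modules.pullback (Curv2.bcFst k X k')).obj F) x' hx'c l := by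
  let f := X ↘ Spec (CommRingCat.of k)
  let g := Spec.map (CommRingCat.ofHom (algebraMap k k'))
  let f' : Curv2.bc k X k' ⟶ Spec (CommRingCat.of k') := pullback.snd f g
  let π : Curv2.bc k X k' ⟶ X := Curv2.bcFst k X k'
  haveI hS : Subsingleton (Spec (CommRingCat.of k)) := inferInstanceAs (Subsingleton (PrimeSpectrum k))
  haveI : Subsingleton (Spec (CommRingCat.of k')) := inferInstanceAs (Subsingleton (PrimeSpectrum k'))
  haveI : Surjective g := ⟨fun a => ⟨IsLocalRing.closedPoint k', Subsingleton.elim _ _⟩⟩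
  have hbase : IsPullback π f' f g := IsPullback.of_hasPullback _ _
  obtain ⟨σ, hσ, hσx⟩ := exists_section k X x hrat
  haveI : IsClosedImmersion σ := by
    haveI : IsClosedImmersion (σ ≫ f) := by rw [hσ]; infer_instance
    exact IsClosedImmersion.of_comp σ f
  let σ' : Spec (CommRingCat.of k') ⟶ Curv2.bc k X k' :=
    pullback.lift (g ≫ σ) (𝟙 _) (by rw [Category.assoc, hσ, Category.comp_id, Category.id_comp])
  have hk : σ.ker.comap π = σ'.ker :=
    comap_ker_section hbase σ σ' hσ (pullback.lift_snd _ _ _) (pullback.lift_fst _ _ _)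
  haveI : IsClosedImmersion σ' := by
    haveI : IsClosedImmersion (σ' ≫ f') := by
      rw [show σ' ≫ f' = 𝟙 _ from pullback.lift_snd _ _ _]; infer_instance
    exact IsClosedImmersion.of_comp σ' f'
  have hσ'x : σ' (IsLocalRing.closedPoint k') = x' := by
    have h1 := congrArg (fun I : (Curv2.bc k X k').IdealSheafData => (I.support : Set ↥(Curv2.bc k X k'))) hk
    simp only [Scheme.IdealSheafData.support_comap] at h1
    have h3 : π x' ∈ (σ.ker.support : Set X) := by
      rw [Scheme.Hom.support_ker]
      exact subset_closure ⟨IsLocalRing.closedPoint k, hσx.trans hx'.symm⟩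
    have h2 : x' ∈ (σ'.ker.support : Set ↥(Curv2.bc k X k')) := h1.subset h3
    rw [Scheme.Hom.support_ker] at h2
    replace h2 : x' ∈ closure (Set.range σ') := h2
    rw [σ'.isClosedEmbedding.isClosed_range.closure_eq] at h2
    obtain ⟨a, ha⟩ := h2
    rw [← ha]
    exact congrArg σ' (Subsingleton.elim _ _)
  let I := W4c2seshadripos.pointIdeal x hx ^ (l + 1)
  have hJ : W4c2seshadripos.pointIdeal x' hx'c ^ (l + 1) = I.comap π := by
    show _ = (W4c2seshadripos.pointIdeal x hx ^ (l + 1)).comap π
    rw [← ker_point k' σ' x' hx'c hσ'x, ← hk, ker_point k σ x hx hσx, BlowUpExist.comap_pow]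
  show Function.Surjective (W4c2seshadripos.resH I F) ↔ Function.Surjective
    (W4c2seshadripos.resH (W4c2seshadripos.pointIdeal x' hx'c ^ (l + 1)) ((Scheme.Modules.pullback π).obj F))
  rw [hJ]
  have hsq : IsPullback ((I.comapIso π).hom ≫ pullback.snd π I.subschemeι) (I.comap π).subschemeι I.subschemeι π :=
    IsPullback.flip (IsPullback.of_iso_pullback ⟨by
      rw [← Scheme.IdealSheafData.comapIso_hom_fst, Category.assoc, Category.assoc, pullback.condition]⟩
      (I.comapIso π) (Scheme.IdealSheafData.comapIso_hom_fst I π) rfl)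
  exact (((surjective_H0_iff _).trans (surjective_iff_epi f _)).trans (epi_unit_iff hbase hsq F hF)).trans
    ((surjective_iff_epi f' _).symm.trans (surjective_H0_iff _).symm)

end Groth.Agent.Jets5
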